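import Groth.Agent.L13.OrdSurf.Basic
import Groth.Prelude.Def_FlatMod2
import Groth.Agent.L12.DefoSh.Tensor
import Mathlib.RingTheory.Flat.Basic

/-! Stalks of modules over a sheaf of algebras as modules over the local rings. -/

universe u

open CategoryTheory AlgebraicGeometry TopologicalSpace Opposite

namespace Groth.L13.OrdSurf

variable {X : Scheme.{u}} {A : Sheaf (Opens.grothendieckTopology X) RingCat.{u}}
  (φ : X.ringCatSheaf ⟶ A)

theorem exists_stalkHom (x : X) :
    ∃ f : X.presheaf.stalk x →+* TopCat.Presheaf.stalk (C := RingCat.{u}) (X := X.carrier) A.obj x,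
      ∀ (U : X.Opens) (hx : x ∈ U) (s : Γ(X, U)),
        f (X.presheaf.germ U x hx s) =
          TopCat.Presheaf.germ (C := RingCat.{u}) (X := X.carrier) A.obj U x hx (φ.hom.app (op U) s) := by
  have hsurj : ∀ r : X.presheaf.stalk x, ∃ (U : X.Opens) (hx : x ∈ U) (s : Γ(X, U)),
      X.presheaf.germ U x hx s = r := fun r => X.presheaf.exists_germ_eq r
  choose U hU s hs using hsurj
  let g : X.presheaf.stalk x → TopCat.Presheaf.stalk (C := RingCat.{u}) (X := X.carrier) A.obj x :=
    fun r => TopCat.Presheaf.germ (C := RingCat.{u}) (X := X.carrier) A.obj (U r) x (hU r) (φ.hom.app (op (U r)) (s r))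
  have hg : ∀ (V : X.Opens) (hx : x ∈ V) (t : Γ(X, V)), g (X.presheaf.germ V x hx t) =
      TopCat.Presheaf.germ (C := RingCat.{u}) (X := X.carrier) A.obj V x hx (φ.hom.app (op V) t) := by
    intro V hx t
    obtain ⟨W, hW, i₁, i₂, hWe⟩ := X.presheaf.germ_eq x _ hx _ t (hs (X.presheaf.germ V x hx t))
    show TopCat.Presheaf.germ (C := RingCat.{u}) (X := X.carrier) A.obj _ x _ _ = _
    rw [← TopCat.Presheaf.germ_res_apply (X := X.carrier) A.obj i₁ x hW,
      ← TopCat.Presheaf.germ_res_apply (X := X.carrier) A.obj i₂ x hW]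
    refine congrArg _ ?_
    refine (NatTrans.naturality_apply φ.hom i₁.op _).symm.trans ?_
    refine Eq.trans ?_ (NatTrans.naturality_apply φ.hom i₂.op _)
    exact congrArg _ hWe
  refine ⟨{ toFun := g, map_one' := ?_, map_mul' := ?_, map_zero' := ?_, map_add' := ?_ }, hg⟩
  · rw [← map_one (X.presheaf.germ ⊤ x trivial).hom, hg]
    exact (congrArg _ (map_one (φ.hom.app (op ⊤)).hom)).trans (map_one _)
  · intro a b
    obtain ⟨V, hV, t, rfl⟩ := X.presheaf.exists_germ_eq a
    obtain ⟨V', hV', t', rfl⟩ := X.presheaf.exists_germ_eq b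
    have hW : x ∈ V ⊓ V' := ⟨hV, hV'⟩
    rw [← X.presheaf.germ_res_apply (homOfLE (inf_le_left : V ⊓ V' ≤ V)) x hW t,
      ← X.presheaf.germ_res_apply (homOfLE (inf_le_right : V ⊓ V' ≤ V')) x hW t', ← map_mul, hg, hg, hg]
    exact (congrArg _ (map_mul (φ.hom.app (op (V ⊓ V'))).hom _ _)).trans (map_mul _ _ _)
  · rw [← map_zero (X.presheaf.germ ⊤ x trivial).hom, hg]
    exact (congrArg _ (map_zero (φ.hom.app (op ⊤)).hom)).trans (map_zero _)
  · intro a b
    obtain ⟨V, hV, t, rfl⟩ := X.presheaf.exists_germ_eq a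
    obtain ⟨V', hV', t', rfl⟩ := X.presheaf.exists_germ_eq b
    have hW : x ∈ V ⊓ V' := ⟨hV, hV'⟩
    rw [← X.presheaf.germ_res_apply (homOfLE (inf_le_left : V ⊓ V' ≤ V)) x hW t,
      ← X.presheaf.germ_res_apply (homOfLE (inf_le_right : V ⊓ V' ≤ V')) x hW t', ← map_add, hg, hg, hg]
    exact (congrArg _ (map_add (φ.hom.app (op (V ⊓ V'))).hom _ _)).trans (map_add _ _ _)

/-- The `O_x`-action on the stalk of an `A`-module is the action through the stalk of `φ`. -/
theorem smul_eq_stalkHom (x : X) (f : X.presheaf.stalk x →+* TopCat.Presheaf.stalk (C := RingCat.{u}) (X := X.carrier) A.obj x)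
    (hf : ∀ (U : X.Opens) (hx : x ∈ U) (s : Γ(X, U)),
        f (X.presheaf.germ U x hx s) =
          TopCat.Presheaf.germ (C := RingCat.{u}) (X := X.carrier) A.obj U x hx (φ.hom.app (op U) s))
    (P : SheafOfModules.{u} A) (r : X.presheaf.stalk x)
    (v : TopCat.Presheaf.stalk (C := Ab.{u}) (X := X.carrier) P.val.presheaf x) :
    (r • (show (Scheme.Modules.presheaf (X := X) ((SheafOfModules.restrictScalars φ).obj P)).stalk x from v)) =
      (show (Scheme.Modules.presheaf (X := X) ((SheafOfModules.restrictScalars φ).obj P)).stalk x from f r • v) := by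
  obtain ⟨V, hV, t, rfl⟩ := X.presheaf.exists_germ_eq r
  obtain ⟨V', hV', m, rfl⟩ := TopCat.Presheaf.exists_germ_eq (C := Ab.{u}) (X := X.carrier) P.val.presheaf v
  have hW : x ∈ V ⊓ V' := ⟨hV, hV'⟩
  rw [← X.presheaf.germ_res_apply (homOfLE (inf_le_left : V ⊓ V' ≤ V)) x hW t,
    ← TopCat.Presheaf.germ_res_apply (X := X.carrier) P.val.presheaf (homOfLE (inf_le_right : V ⊓ V' ≤ V')) x hW m]
  generalize X.presheaf.map (homOfLE (inf_le_left : V ⊓ V' ≤ V)).op t = t'
  generalize P.val.presheaf.map (homOfLE (inf_le_right : V ⊓ V' ≤ V')).op m = m'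
  refine (Groth.L20.ModStalk.germ_smul (X := X) ((SheafOfModules.restrictScalars φ).obj P) hW t' m').symm.trans ?_
  rw [hf]
  exact PresheafOfModules.germ_ringCat_smul (X := X.carrier) P.val x _ hW (φ.hom.app _ t') m'

/-- A stalkwise projective module over a finite locally free algebra has flat stalks. -/
theorem isFlat_of_projective_stalks
    (hA : FlatMod.IsFinLocFree (X := X) ((SheafOfModules.restrictScalars φ).obj (SheafOfModules.unit A)))
    (M : SheafOfModules.{u} A)
    (hMp : ∀ x : X, Module.Projective ↑(TopCat.Presheaf.stalk (C := RingCat.{u}) (X := X.carrier) A.obj x)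
      ↑(TopCat.Presheaf.stalk (C := Ab.{u}) (X := X.carrier) M.val.presheaf x)) :
    FlatMod.IsFlat (X := X) ((SheafOfModules.restrictScalars φ).obj M) := by
  intro x
  obtain ⟨f, hf⟩ := exists_stalkHom φ x
  let Ax := TopCat.Presheaf.stalk (C := RingCat.{u}) (X := X.carrier) A.obj x
  let FA : X.Modules := (SheafOfModules.restrictScalars φ).obj (SheafOfModules.unit A)
  letI : Module (X.presheaf.stalk x) Ax := Module.compHom Ax f
  let one : TopCat.Presheaf.stalk (C := Ab.{u}) (X := X.carrier) (SheafOfModules.unit A).val.presheaf x :=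
    TopCat.Presheaf.germ (C := Ab.{u}) (X := X.carrier) (SheafOfModules.unit A).val.presheaf ⊤ x trivial
      (1 : A.obj.obj (op ⊤))
  have hone : ∀ (U : X.Opens) (hx : x ∈ U) (a : A.obj.obj (op U)),
      TopCat.Presheaf.germ (C := RingCat.{u}) (X := X.carrier) A.obj U x hx a • one =
        TopCat.Presheaf.germ (C := Ab.{u}) (X := X.carrier) (SheafOfModules.unit A).val.presheaf U x hx a := by
    intro U hx a
    have h1 : one = TopCat.Presheaf.germ (C := Ab.{u}) (X := X.carrier) (SheafOfModules.unit A).val.presheaf U x hx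
        (1 : A.obj.obj (op U)) := by
      refine (TopCat.Presheaf.germ_res_apply (X := X.carrier) (SheafOfModules.unit A).val.presheaf
        (homOfLE (le_top : U ≤ ⊤)) x hx _).symm.trans (congrArg _ ?_)
      exact map_one (A.obj.map (homOfLE (le_top : U ≤ ⊤)).op).hom
    rw [h1]
    refine (PresheafOfModules.germ_ringCat_smul (X := X.carrier) (SheafOfModules.unit A).val x U hx a _).symm.trans
      (congrArg _ ?_)
    exact mul_one a
  let e : Ax →ₗ[X.presheaf.stalk x] FA.presheaf.stalk x :=
    { toFun := fun a => a • one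
      map_add' := fun a b => add_smul a b one
      map_smul' := fun r a => by
        refine (mul_smul (f r) a one).trans ?_
        exact (smul_eq_stalkHom φ x f hf (SheafOfModules.unit A) r (a • one)).symm }
  have he : Function.Bijective e := by
    refine ⟨(injective_iff_map_eq_zero e).mpr fun a ha => ?_, fun v => ?_⟩
    · obtain ⟨U, hx, a₀, rfl⟩ := TopCat.Presheaf.exists_germ_eq (C := RingCat.{u}) (X := X.carrier) A.obj a
      have h0 : TopCat.Presheaf.germ (C := Ab.{u}) (X := X.carrier) (SheafOfModules.unit A).val.presheaf U x hx a₀ = 0 :=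
        (hone U hx a₀).symm.trans ha
      obtain ⟨W, hW, i₁, i₂, hWe⟩ := TopCat.Presheaf.germ_eq (X := X.carrier) (SheafOfModules.unit A).val.presheaf
        x hx hx a₀ 0 (h0.trans (map_zero _).symm)
      rw [← TopCat.Presheaf.germ_res_apply (X := X.carrier) A.obj i₁ x hW]
      have : A.obj.map i₁.op a₀ = 0 := hWe.trans (map_zero _)
      rw [this, map_zero]
    · obtain ⟨U, hx, a₀, rfl⟩ := TopCat.Presheaf.exists_germ_eq (C := Ab.{u}) (X := X.carrier)
        (SheafOfModules.unit A).val.presheaf v
      exact ⟨_, hone U hx a₀⟩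
  haveI : Module.Free (X.presheaf.stalk x) Ax :=
    haveI := Groth.L12.DefoSh.free_stalk hA x
    Module.Free.of_equiv (LinearEquiv.ofBijective e he).symm
  obtain ⟨s, hs⟩ := Module.projective_def.mp (hMp x)
  let FM : X.Modules := (SheafOfModules.restrictScalars φ).obj M
  let toM : FM.presheaf.stalk x →+ TopCat.Presheaf.stalk (C := Ab.{u}) (X := X.carrier) M.val.presheaf x :=
    AddMonoidHom.id (TopCat.Presheaf.stalk (C := Ab.{u}) (X := X.carrier) M.val.presheaf x)
  have hact : ∀ (r : X.presheaf.stalk x) (v : FM.presheaf.stalk x), toM (r • v) = f r • toM v :=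
    fun r v => smul_eq_stalkHom φ x f hf M r v
  let s' : FM.presheaf.stalk x →ₗ[X.presheaf.stalk x]
      (TopCat.Presheaf.stalk (C := Ab.{u}) (X := X.carrier) M.val.presheaf x →₀ Ax) :=
    { toFun := fun v => s (toM v)
      map_add' := fun a b => by rw [map_add toM, map_add]
      map_smul' := fun r v => by
        rw [hact, map_smul]
        rfl }
  let toF : TopCat.Presheaf.stalk (C := Ab.{u}) (X := X.carrier) M.val.presheaf x →+ FM.presheaf.stalk x :=
    AddMonoidHom.id (TopCat.Presheaf.stalk (C := Ab.{u}) (X := X.carrier) M.val.presheaf x)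
  let p : (TopCat.Presheaf.stalk (C := Ab.{u}) (X := X.carrier) M.val.presheaf x →₀ Ax) →ₗ[X.presheaf.stalk x]
      FM.presheaf.stalk x :=
    { toFun := fun w => toF (Finsupp.linearCombination Ax id w)
      map_add' := fun a b => by rw [map_add (Finsupp.linearCombination Ax id), map_add toF]
      map_smul' := fun r w => by
        have e1 : r • w = f r • w := Finsupp.ext fun i => rfl
        rw [e1, map_smul (Finsupp.linearCombination Ax id) (f r) w]
        exact (hact r (toF (Finsupp.linearCombination Ax id w))).symm }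
  have : Module.Projective (X.presheaf.stalk x) (FM.presheaf.stalk x) :=
    Module.Projective.of_split s' p (LinearMap.ext fun v => (congrArg toF (hs (toM v)) :))
  exact Module.Flat.of_projective

end Groth.L13.OrdSurf
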