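import Groth.Prelude.Def_TorSh
import Groth.Prelude.Def_Coh
import Groth.Agent.L20.ModStalk
import Groth.Agent.L21.Mod.Stalks
import Mathlib.AlgebraicGeometry.FunctionField
import Mathlib.Algebra.Category.ModuleCat.Sheaf.ChangeOfRings
import Mathlib.Algebra.Category.ModuleCat.Stalk
import Mathlib.RingTheory.SimpleModule.Basic

/-! Modules over a sheaf of algebras on an integral scheme: sections inject into the generic stalk
when torsion free; stalk maps are linear over the stalk of the sheaf of rings. -/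

universe u

open CategoryTheory AlgebraicGeometry TopologicalSpace Opposite

namespace Groth.L13.OrdSurf

variable {X : Scheme.{u}}

theorem germ_eq_zero_of_generic [IsIntegral X] (F : X.Modules) [Coh.IsQCoh F]
    (hF : TorSh.IsTorsionFree F) {W : X.Opens} {x : X} (hx : x ∈ W) (hη : genericPoint X ∈ W)
    (s : Γ(F, W)) (h : F.presheaf.germ W (genericPoint X) hη s = 0) :
    F.presheaf.germ W x hx s = 0 := by
  obtain ⟨_, ⟨V, hV, rfl⟩, hxV, hVW⟩ :=
    X.isBasis_affineOpens.exists_subset_of_mem_open hx W.2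
  let s' : Γ(F, V) := Groth.L18.Frame.rs F hVW s
  have hηV : genericPoint X ∈ V := (genericPoint_specializes x).mem_open V.2 hxV
  have h' : F.presheaf.germ V (genericPoint X) hηV s' = 0 := by
    rw [Groth.L20.ModStalk.germ_rs]; exact h
  letI := Groth.L20.ModStalk.stalkModule F hηV
  haveI := Groth.L20.ModStalk.isLocalizedModule_germ F hV hηV
  obtain ⟨⟨g, hg⟩, hgs⟩ := (IsLocalizedModule.eq_zero_iff
    (hV.primeIdealOf ⟨_, hηV⟩).asIdeal.primeCompl (Groth.L20.ModStalk.germₗ F hηV)).mp h'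
  have hg0 : g ≠ 0 := fun h => hg (h ▸ zero_mem _)
  have h2 : X.presheaf.germ V x hxV g • F.presheaf.germ V x hxV s' = 0 := by
    rw [← Groth.L20.ModStalk.germ_smul, show g • s' = 0 from hgs, map_zero]
  haveI := hF x
  haveI : Nonempty V := ⟨⟨x, hxV⟩⟩
  have hgx : X.presheaf.germ V x hxV g ≠ 0 := fun h =>
    hg0 (germ_injective_of_isIntegral X x hxV (h.trans (map_zero _).symm))
  have h3 := (smul_eq_zero.mp h2).resolve_left hgx
  rwa [Groth.L20.ModStalk.germ_rs] at h3

theorem section_eq_zero_of_generic [IsIntegral X] (F : X.Modules) [Coh.IsQCoh F]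
    (hF : TorSh.IsTorsionFree F) {W : X.Opens} (hη : genericPoint X ∈ W) (s : Γ(F, W))
    (h : F.presheaf.germ W (genericPoint X) hη s = 0) : s = 0 := by
  refine TopCat.Presheaf.section_ext ((Groth.L21.Mod.toAbSh X).obj F) _ _ _ fun x hx => ?_
  show F.presheaf.germ W x hx s = F.presheaf.germ W x hx 0
  rw [map_zero, germ_eq_zero_of_generic F hF hx hη s h]

variable {A : Sheaf (Opens.grothendieckTopology X) RingCat.{u}}

/-- The stalk map of a morphism of modules over a sheaf of rings is linear. -/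
noncomputable def stalkLin {M N : SheafOfModules.{u} A} (ψ : M ⟶ N) (x : X) :
    (TopCat.Presheaf.stalk (C := Ab.{u}) (X := X.carrier) M.val.presheaf x) →ₗ[
      TopCat.Presheaf.stalk (C := RingCat.{u}) (X := X.carrier) A.obj x]
      (TopCat.Presheaf.stalk (C := Ab.{u}) (X := X.carrier) N.val.presheaf x) where
  toFun := fun v => (ConcreteCategory.hom ((TopCat.Presheaf.stalkFunctor Ab x).map ((PresheafOfModules.toPresheaf _).map ψ.val))) v
  map_add' := map_add _
  map_smul' a v := by
    obtain ⟨Ua, ha, r, rfl⟩ := TopCat.Presheaf.exists_germ_eq (C := RingCat.{u}) (X := X.carrier) A.obj a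
    obtain ⟨Uv, hv, m, rfl⟩ := TopCat.Presheaf.exists_germ_eq (C := Ab.{u}) (X := X.carrier) M.val.presheaf v
    simp only [RingHom.id_apply]
    rw [← TopCat.Presheaf.germ_res_apply (X := X.carrier) A.obj
        (homOfLE (inf_le_left : Ua ⊓ Uv ≤ Ua)) x ⟨ha, hv⟩,
      ← TopCat.Presheaf.germ_res_apply (X := X.carrier) M.val.presheaf
        (homOfLE (inf_le_right : Ua ⊓ Uv ≤ Uv)) x ⟨ha, hv⟩]
    have hW : x ∈ Ua ⊓ Uv := ⟨ha, hv⟩
    set r' := A.obj.map (homOfLE (inf_le_left : Ua ⊓ Uv ≤ Ua)).op r with hr'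
    set m' := M.val.presheaf.map (homOfLE (inf_le_right : Ua ⊓ Uv ≤ Uv)).op m with hm'
    let f := (PresheafOfModules.toPresheaf _).map ψ.val
    have key : ∀ n : M.val.obj (op (Ua ⊓ Uv)),
        ((TopCat.Presheaf.stalkFunctor Ab x).map f)
          (TopCat.Presheaf.germ (C := Ab.{u}) (X := X.carrier) M.val.presheaf (Ua ⊓ Uv) x hW n) =
        TopCat.Presheaf.germ (C := Ab.{u}) (X := X.carrier) N.val.presheaf (Ua ⊓ Uv) x hW
          ((ψ.val.app (op (Ua ⊓ Uv))).hom n) := fun n =>
      TopCat.Presheaf.stalkFunctor_map_germ_apply (X := X.carrier) (Ua ⊓ Uv) x hW f n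
    refine Eq.trans (congrArg _ (PresheafOfModules.germ_ringCat_smul (X := X.carrier) M.val x
      (Ua ⊓ Uv) hW r' m').symm) ((key _).trans ?_)
    refine Eq.trans ?_ (congrArg _ (key m').symm)
    exact (congrArg _ ((ψ.val.app (op (Ua ⊓ Uv))).hom.map_smul r' m')).trans
      (PresheafOfModules.germ_ringCat_smul (X := X.carrier) N.val x (Ua ⊓ Uv) hW r' _)

theorem stalkLin_germ {M N : SheafOfModules.{u} A} (ψ : M ⟶ N) (x : X) (U : X.Opens) (hx : x ∈ U)
    (m : M.val.obj (op U)) :
    stalkLin ψ x (TopCat.Presheaf.germ (C := Ab.{u}) (X := X.carrier) M.val.presheaf U x hx m) =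
      TopCat.Presheaf.germ (C := Ab.{u}) (X := X.carrier) N.val.presheaf U x hx ((ψ.val.app (op U)).hom m) :=
  TopCat.Presheaf.stalkFunctor_map_germ_apply (X := X.carrier) U x hx
    ((PresheafOfModules.toPresheaf _).map ψ.val) m

end Groth.L13.OrdSurf
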